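import Cfsg.Agent.ONanAut.Cert
import Cfsg.Agent.AutCert.NormalForm
import Cfsg.Agent.Golay.Induced

/-!
# Automorphisms of the presented O'Nan group
-/

set_option autoImplicit false
set_option quotPrecheck false
set_option maxRecDepth 100000

namespace Cfsg.Agent.ONanAut

open Cfsg.Agent.CosetCert Cfsg.Agent.PermCent

local notation "O" => Cfsg.Spor.ON
local notation "D" => Cfsg.Agent.CosetCert.ONan.data

/-- Letters of a word are among the eight. -/
noncomputable def okW (w : List ℕ) : Bool := w.all fun l => onT.letters.contains l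

/-- Two words are equal by the check at the base points. -/
noncomputable def sameW (u v : List ℕ) : Bool := okW u && okW v && onT.sameOK u v

/-- Two words are different by the check at the base points. -/
noncomputable def diffW (u v : List ℕ) : Bool := okW u && okW v && !(onT.sameOK u v)

/-- A power of a word. -/
def powW (w : List ℕ) (n : ℕ) : List ℕ := (List.replicate n w).flatten

/-- Substitution for the five letters. -/
def sub5 (c ci e : List ℕ) : List ℕ → List ℕ :=
  List.flatMap fun g => if g = 1 then c else if g = 2 then ci else if g = 3 then dW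
    else if g = 4 then diW else e

/-- Value of a word in five letters. -/
def five {G : Type*} [Group G] (c d e : G) (g : ℕ) : G :=
  if g = 1 then c else if g = 2 then c⁻¹ else if g = 3 then d else if g = 4 then d⁻¹ else e

theorem map_five {G H : Type*} [Group G] [Group H] (f : G →* H) (c d e : G) :
    ∀ r : List ℕ, f (pval (five c d e) r) = pval (five (f c) (f d) (f e)) r
  | [] => map_one f
  | g :: r => by
    rw [pval, pval, map_mul, map_five f c d e r]
    congr 1
    unfold five
    split_ifs <;> simp [map_inv]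

theorem mem_five {G : Type*} [Group G] (c d e : G) :
    ∀ r : List ℕ, pval (five c d e) r ∈ Subgroup.closure ({c, d, e} : Set G)
  | [] => Subgroup.one_mem _
  | g :: r => by
    refine Subgroup.mul_mem _ (mem_five c d e r) ?_
    unfold five
    have hc : c ∈ Subgroup.closure ({c, d, e} : Set G) := Subgroup.subset_closure (by simp)
    have hd : d ∈ Subgroup.closure ({c, d, e} : Set G) := Subgroup.subset_closure (by simp)
    have he : e ∈ Subgroup.closure ({c, d, e} : Set G) := Subgroup.subset_closure (by simp)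
    split_ifs
    exacts [hc, Subgroup.inv_mem _ hc, hd, Subgroup.inv_mem _ hd, he]

/-- Checks of the small facts. -/
noncomputable def basicOK : Bool :=
  sameW (cW ++ ciW) [] && sameW (ciW ++ cW) [] && sameW (dW ++ diW) [] && sameW (powW cW 31) [] &&
    diffW cW [] && sameW (cW ++ dW) (dW ++ powW cW 10) && sameW (dW ++ eW) (eW ++ powW dW 11) &&
    sameW (d0W ++ d0iW) [] && sameW (d0iW ++ d0W) [] && sameW (powW d0W 16) d0W &&
    sameW (uiW ++ uW) [] && sameW (uiW ++ (powW d0W 8 ++ uW)) dW

/-- The listed centraliser of `d` covers what the certificate gives. -/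
noncomputable def zOK : Bool :=
  (List.range 15).all fun i => (List.range 3).all fun j =>
    Nat.blt (3 * i + j) zList.length &&
      sameW (uiW ++ ((wD.getD j [] ++ powW d0W i) ++ uW)) (zList.getD (3 * i + j) [])

/-- All candidates but two violate a relation. -/
noncomputable def candOK : Bool :=
  zList.all (fun v => okW v) &&
  (relList.all fun r => sameW (sub5 cW ciW eW r) []) &&
  (List.range zList.length).all fun j =>
    (Nat.beq j 0 || relList.any fun r => diffW (sub5 cW ciW (zList.getD j [] ++ eW) r) []) &&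
    (Nat.beq j zOuter || relList.any fun r => diffW (sub5 ciW cW (zList.getD j [] ++ eW) r) [])

/-- The letters are words in `c, d, e`. -/
noncomputable def genOK : Bool :=
  (List.range 8).all fun m => sameW (sub5 cW ciW eW (bestW.getD (m + 1) [])) [m + 1]

/-- Substitution of the images. -/
def imgSub : List ℕ → List ℕ := List.flatMap fun l => imgW.getD l []

/-- The images satisfy the relations and move the generators as expected. -/
noncomputable def homOK : Bool :=
  (List.range 9).all (fun l => sameW (imgSub [l, PresData.inv D l]) [] && sameW (imgSub [PresData.inv D l, l]) []) &&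
    (PresData.words D).all (fun u => sameW (imgSub u) []) &&
    sameW (imgSub cW) ciW && sameW (imgSub dW) dW &&
    sameW (imgSub eW) (zList.getD zOuter [] ++ eW) &&
    zList.all fun v => diffW (cW ++ v) (v ++ ciW)

/-- The centraliser checks at single words. -/
noncomputable def centOK : Bool :=
  okW cW && okW ciW && okW d0W && okW d0iW &&
    onT.fixOK cW fixIC fixTC fixTiC [[]] && onT.fixOK d0W fixID fixTD fixTiD [[]] &&
    altsD.all (fun a => onT.altOK d0W 20 a) &&
    wD.all (fun w => okW w && onT.sameOK (w ++ d0W) (d0W ++ w)) &&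
    repsC.all (fun r => Nat.beq r 0) &&
    repsD.all fun r => (wD.any fun w => Nat.beq (Cfsg.Agent.CosetEnum.runWord (PresData.look D) w 0) r) ||
      altsD.any fun a => Nat.beq a.p r

/-- All the facts computed. -/
structure Computed : Prop where
  basic : basicOK = true
  zlist : zOK = true
  cand : candOK = true
  gen : genOK = true
  hom : homOK = true
  cent : centOK = true
  cpts : ∀ p < PresData.N D, onT.pointOK lab cW ciW 20 31 (fun i => PTree.get 16 codeC i) repsC p = true
  dpts : ∀ p < PresData.N D, onT.pointOK lab d0W d0iW 20 15 (fun i => PTree.get 16 codeD i) repsD p = true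
  lab1 : ∀ r, 110790 ≤ r → r < 116376 → closedOK (PresData.look D) Cfsg.Agent.CosetCert.ONan.ordT
    Cfsg.Agent.CosetCert.ONan.rankT 110790 116376 [3, 4, 5, 6, 7, 8] r = true
  lab2 : ∀ r, 116376 ≤ r → r < 122760 → closedOK (PresData.look D) Cfsg.Agent.CosetCert.ONan.ordT
    Cfsg.Agent.CosetCert.ONan.rankT 116376 122760 [3, 4, 5, 6, 7, 8] r = true

namespace OCert

variable (C : OCert) (h : Computed)
include C h

theorem sameW_eq {u v : List ℕ} (e : sameW u v = true) : gw u = gw v := by
  simp only [sameW, Bool.and_eq_true] at e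
  exact C.gw_eq e.1.1 e.1.2 e.2

theorem diffW_ne {u v : List ℕ} (e : diffW u v = true) : gw u ≠ gw v := by
  simp only [diffW, Bool.and_eq_true, Bool.not_eq_true'] at e
  exact C.gw_ne e.1.1 e.1.2 e.2

theorem basic_facts : gw ciW = (gw cW)⁻¹ ∧ gw diW = (gw dW)⁻¹ ∧ gw cW ^ 31 = 1 ∧ gw cW ≠ 1 ∧
    gw dW * gw cW = gw cW ^ 10 * gw dW ∧ gw eW * gw dW = gw dW ^ 11 * gw eW ∧
    gw d0W ^ 16 = gw d0W ∧ gw uiW = (gw uW)⁻¹ ∧
    gw uW * gw d0W ^ 8 * (gw uW)⁻¹ = gw dW ∧ gw (d0iW ++ d0W) = 1 ∧ gw (ciW ++ cW) = 1 := by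
  have hb := h.basic
  simp only [basicOK, Bool.and_eq_true] at hb
  obtain ⟨⟨⟨⟨⟨⟨⟨⟨⟨⟨⟨h1, h1'⟩, h2⟩, h3⟩, h4⟩, h5⟩, h6⟩, h7⟩, h7'⟩, h8⟩, h9⟩, h10⟩ := hb
  have hpow : ∀ (w : List ℕ) n, gw (powW w n) = gw w ^ n := gw_pow
  have e1 := C.sameW_eq h h1
  have e2 := C.sameW_eq h h2
  have e9 := C.sameW_eq h h9
  rw [gw_append, gw_nil] at e1 e2 e9
  have eu : gw uiW = (gw uW)⁻¹ := eq_inv_of_mul_eq_one_right e9
  refine ⟨eq_inv_of_mul_eq_one_left e1, eq_inv_of_mul_eq_one_left e2, ?_, ?_, ?_, ?_, ?_, eu, ?_, ?_, ?_⟩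
  · have := C.sameW_eq h h3; rwa [hpow, gw_nil] at this
  · have := C.diffW_ne h h4; rwa [gw_nil] at this
  · have := C.sameW_eq h h5; rwa [gw_append, gw_append, hpow] at this
  · have := C.sameW_eq h h6; rwa [gw_append, gw_append, hpow] at this
  · have := C.sameW_eq h h8; rwa [hpow] at this
  · have := C.sameW_eq h h10; rwa [gw_append, gw_append, hpow, eu] at this
  · exact (C.sameW_eq h h7').trans gw_nil
  · exact (C.sameW_eq h h1').trans gw_nil

theorem letters_of {w : List ℕ} (hw : okW w = true) : ∀ l ∈ w, l ∈ C.frame.letters := by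
  simp only [okW, List.all_eq_true, List.contains_iff_mem] at hw
  exact hw

theorem lab_invariant :
    ∀ τ ∈ C.frame.H, ∀ q : Fin (PresData.N D), lab (τ q : ℕ) = lab (q : ℕ) :=
  C.frame.label_pres (ls := [3, 4, 5, 6, 7, 8])
    ((by decide +kernel : ∀ l ∈ [3, 4, 5, 6, 7, 8], l ∈ onT.letters))
    ((by decide +kernel : ∀ u ∈ onT.L1.gens ++ onT.K, ∀ l ∈ u, l ∈ [3, 4, 5, 6, 7, 8]))
    h.lab1 h.lab2

theorem cent_c {x : O} (hx : x * gw cW = gw cW * x) : ∃ i < 31, x = gw cW ^ i := by
  have hc := h.cent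
  simp only [centOK, Bool.and_eq_true] at hc
  obtain ⟨⟨⟨⟨⟨⟨⟨⟨⟨hw, hwi⟩, -⟩, -⟩, hfix⟩, -⟩, -⟩, -⟩, hreps⟩, -⟩ := hc
  have hl := C.letters_of h hw
  have hli := C.letters_of h hwi
  obtain ⟨i, hi, w, hw', z, hz, e⟩ := C.frame.centralizer (lab := lab) (C.lab_invariant h) hl
    (fuel := 20) (n := 31) ([] : List Alt) (by simp) [[]] (fun w hw' => by
      rw [List.mem_singleton.1 hw']
      refine ⟨by simp, ?_⟩
      rw [List.nil_append, List.append_nil, Tables.sameOK]
      simp [Nat.beq_refl])
    (reps := repsC) (fun r hr => Or.inl ⟨[], List.mem_singleton_self _, by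
      rw [List.all_eq_true] at hreps
      exact (Nat.eq_of_beq_eq_true (hreps r hr)).symm⟩)
    (C.frame.cover hl hli (by rw [C.val_eq_phi, (C.basic_facts h).2.2.2.2.2.2.2.2.2.2, map_one]) h.cpts)
    (fun y hy hyc => C.frame.fix_sound hl hfix hy hyc)
    (MonoidHom.mem_range.2 ⟨x, rfl⟩) (C.comm_phi hx)
  refine ⟨i, hi, C.inj ?_⟩
  rw [List.mem_singleton.1 hw', List.mem_singleton.1 hz] at e
  rw [e, map_pow, C.val_eq_phi cW, C.val_eq_phi [], gw_nil, map_one, mul_one, mul_one]

theorem cent_d {x : O} (hx : x * gw dW = gw dW * x) : ∃ v ∈ zList, x = gw v := by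
  have hc := h.cent
  simp only [centOK, Bool.and_eq_true] at hc
  obtain ⟨⟨⟨⟨⟨⟨⟨⟨⟨-, -⟩, hw⟩, hwi⟩, -⟩, hfix⟩, halts⟩, hwd⟩, -⟩, hreps⟩ := hc
  obtain ⟨-, -, -, -, -, -, h16, hui, hu, hd0, -⟩ := C.basic_facts h
  have hl := C.letters_of h hw
  have hli := C.letters_of h hwi
  let y := (gw uW)⁻¹ * x * gw uW
  have h8 : Commute y (gw d0W ^ 8) := by
    show y * gw d0W ^ 8 = gw d0W ^ 8 * y
    have e : gw d0W ^ 8 = (gw uW)⁻¹ * gw dW * gw uW := by rw [← hu]; group
    rw [e]
    calc (gw uW)⁻¹ * x * gw uW * ((gw uW)⁻¹ * gw dW * gw uW)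
        = (gw uW)⁻¹ * (x * gw dW) * gw uW := by group
      _ = (gw uW)⁻¹ * (gw dW * x) * gw uW := by rw [hx]
      _ = (gw uW)⁻¹ * gw dW * gw uW * ((gw uW)⁻¹ * x * gw uW) := by group
  have hy : y * gw d0W = gw d0W * y := by
    have := h8.pow_right 2
    rwa [← pow_mul, h16] at this
  rw [List.all_eq_true] at halts hwd hreps
  obtain ⟨i, hi, w, hw', z, hz, e⟩ := C.frame.centralizer (lab := lab) (C.lab_invariant h) hl
    (fuel := 20) (n := 15) altsD halts wD (fun w hw' => by
      have := hwd w hw'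
      rw [Bool.and_eq_true] at this
      exact ⟨C.letters_of h this.1, this.2⟩)
    (reps := repsD) (fun r hr => by
      have := hreps r hr
      simp only [Bool.or_eq_true, List.any_eq_true] at this
      rcases this with ⟨w, h1, h2⟩ | ⟨a, h1, h2⟩
      · exact Or.inl ⟨w, h1, Nat.eq_of_beq_eq_true h2⟩
      · exact Or.inr ⟨a, h1, Nat.eq_of_beq_eq_true h2⟩)
    (C.frame.cover hl hli (by rw [C.val_eq_phi, hd0, map_one]) h.dpts)
    (fun y hy hyc => C.frame.fix_sound hl hfix hy hyc)
    (MonoidHom.mem_range.2 ⟨y, rfl⟩) (C.comm_phi hy)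
  rw [List.mem_singleton.1 hz, C.val_eq_phi, C.val_eq_phi, C.val_eq_phi, gw_nil, map_one, mul_one,
    ← map_pow, ← map_mul] at e
  have ey : y = gw d0W ^ i * gw w := C.inj e
  obtain ⟨j, hj, rfl⟩ := List.getElem_of_mem hw'
  have hj3 : j < 3 := lt_of_lt_of_eq hj (by decide +kernel)
  have hz' := h.zlist
  simp only [zOK, List.all_eq_true, List.mem_range, Bool.and_eq_true] at hz'
  obtain ⟨hlt, hsame⟩ := hz' i hi j hj3
  have hlt' : 3 * i + j < zList.length := Nat.le_of_ble_eq_true hlt
  refine ⟨zList.getD (3 * i + j) [], ?_, ?_⟩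
  · rw [List.getD_eq_getElem _ _ hlt']; exact List.getElem_mem hlt'
  · rw [← C.sameW_eq h hsame, List.getD_eq_getElem _ _ hj, gw_append, gw_append, gw_append, hui,
      show gw (powW d0W i) = gw d0W ^ i from gw_pow _ _, ← ey]
    simp only [y]
    group

theorem closure_top : Subgroup.closure ({gw cW, gw dW, gw eW} : Set O) = ⊤ := by
  have hg := h.gen
  simp only [genOK, List.all_eq_true, List.mem_range] at hg
  rw [eq_top_iff, ← PresentedGroup.closure_range_of, Subgroup.closure_le]
  rintro _ ⟨a, rfl⟩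
  obtain ⟨c1, c2, c3⟩ := C.valid.allCode a
  obtain ⟨m, hm⟩ : ∃ m, PresData.code D a = m + 1 := ⟨PresData.code D a - 1, by omega⟩
  rw [hm, Nat.add_sub_cancel] at c3
  have hl : lett (m + 1) = PresentedGroup.of a := by
    simp [lett, PresData.act, c3, PresData.lval]
  have hb := C.sameW_eq h (hg m (by rw [hm, cols_len] at c2; omega))
  rw [← hl]
  have key : ∀ r : List ℕ, gw (sub5 cW ciW eW r) = pval (five (gw cW) (gw dW) (gw eW)) r := by
    intro r
    induction r with
    | nil => rfl
    | cons g r ih =>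
      rw [show sub5 cW ciW eW (g :: r) =
        (if g = 1 then cW else if g = 2 then ciW else if g = 3 then dW else if g = 4 then diW else eW) ++
          sub5 cW ciW eW r from List.flatMap_cons, gw_append, pval, ih]
      congr 1
      obtain ⟨e1, e2, -⟩ := C.basic_facts h
      unfold five
      split_ifs <;> first | rfl | exact e1 | exact e2
  rw [key] at hb
  have e : gw [m + 1] = lett (m + 1) := by simp [gw, pval]
  rw [← e, ← hb]
  exact mem_five _ _ _ _

theorem sub5_val {cc ci ee : List ℕ} {c d e : O} (hc : gw cc = c) (hci : gw ci = c⁻¹)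
    (hd : gw dW = d) (he : gw ee = e) (r : List ℕ) :
    gw (sub5 cc ci ee r) = pval (five c d e) r := by
  induction r with
  | nil => rfl
  | cons g r ih =>
    rw [show sub5 cc ci ee (g :: r) =
      (if g = 1 then cc else if g = 2 then ci else if g = 3 then dW else if g = 4 then diW else ee) ++
        sub5 cc ci ee r from List.flatMap_cons, gw_append, pval, ih]
    congr 1
    unfold five
    split_ifs
    exacts [hc, hci, hd, (C.basic_facts h).2.1.trans (by rw [hd]), he]

theorem cases (φ : MulAut O) : ∃ a : O, ∃ ψ : MulAut O, φ = MulAut.conj a * ψ ∧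
    ((ψ (gw cW) = gw cW ∧ ψ (gw dW) = gw dW ∧ ψ (gw eW) = gw eW) ∨
      (ψ (gw cW) = gw cW ^ 30 ∧ ψ (gw dW) = gw dW ∧
        ψ (gw eW) = gw eW * gw (zList.getD zOuter []))) := by
  have := C.finite
  haveI : Fact (Nat.Prime 31) := ⟨by norm_num⟩
  obtain ⟨hci, hdi, hc31, hc1, hdc, hed, -, -, -, -, -⟩ := C.basic_facts h
  have hord : orderOf (gw cW) = 31 := orderOf_eq_prime hc31 hc1
  have hmod : ∀ a b : ℕ, a % 31 = b % 31 → gw cW ^ a = gw cW ^ b := fun a b hab => by
    rw [← pow_mod_orderOf, hord, hab, ← hord, pow_mod_orderOf]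
  have hsemi : ∀ i k : ℕ, gw dW ^ i * gw cW ^ k = gw cW ^ (10 ^ i * k) * gw dW ^ i := by
    intro i
    induction i with
    | zero => intro k; simp
    | succ i ih =>
      intro k
      have h1 : gw dW * gw cW ^ k = gw cW ^ (10 * k) * gw dW := by
        have := (SemiconjBy.pow_right (show SemiconjBy (gw dW) (gw cW) (gw cW ^ 10) from hdc) k).eq
        rwa [← pow_mul] at this
      rw [pow_succ (gw dW), mul_assoc, h1, ← mul_assoc, ih, mul_assoc, pow_succ 10 i, mul_assoc (10 ^ i)]
  obtain ⟨a, k, hk, z, ⟨v, hv, rfl⟩, ψ, hφ, h1, h2, h3⟩ := AutCert.exists_normal_form 31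
    (by rw [C.card]; decide +kernel) (c := gw cW) (d := gw dW) (e := gw eW) (r := 10) (s := 11)
    [1, 30] (fun z => ∃ v ∈ zList, z = gw v) hord hdc hed (fun x hx => C.cent_c h hx)
    (fun x hx => C.cent_d h hx)
    (fun k hk => by
      have := (by decide +kernel : ∀ k < 31, k = 0 ∨ ∃ k₀ ∈ [1, 30], ∃ i < 15, 10 ^ i * k % 31 = k₀ % 31) k hk
      refine this.imp id ?_
      rintro ⟨k₀, hk₀, i, -, hi⟩
      exact ⟨k₀, hk₀, i, by rw [hsemi, hmod _ _ hi]⟩)
    (by decide)
    (fun i hi => by
      obtain ⟨j, -, hj⟩ := (by decide +kernel : ∀ i < 31, ∃ j < 31, (j + 10 * i) % 31 = 10 * j % 31) i hi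
      refine ⟨j, ?_⟩
      have e1 := hsemi 1 i
      have e2 := hsemi 1 j
      rw [pow_one, pow_one] at e1 e2
      rw [e1, ← mul_assoc, ← pow_add, hmod _ _ hj, e2])
    φ
  refine ⟨a, ψ, hφ, ?_⟩
  have hcand := h.cand
  simp only [candOK, Bool.and_eq_true, List.all_eq_true, List.mem_range, Bool.or_eq_true,
    List.any_eq_true] at hcand
  obtain ⟨⟨-, hrel⟩, hcand⟩ := hcand
  obtain ⟨j, hj, rfl⟩ := List.getElem_of_mem hv
  have hz : zList.getD j [] = zList[j] := List.getD_eq_getElem _ _ hj
  have he : gw (zList[j] ++ eW) = ψ (gw eW) := by rw [gw_append, h3]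
  have bad : ∀ cc ci : List ℕ, gw cc = ψ (gw cW) → gw ci = (ψ (gw cW))⁻¹ →
      ∀ r ∈ relList, diffW (sub5 cc ci (zList[j] ++ eW) r) [] = true → False := by
    intro cc ci hcc hcc' r hr hd
    refine C.diffW_ne h hd ?_
    rw [gw_nil, C.sub5_val h hcc hcc' h2.symm he r]
    have e := C.sameW_eq h (hrel r hr)
    rw [gw_nil, C.sub5_val h rfl hci rfl rfl r] at e
    have e' := map_five ψ.toMonoidHom (gw cW) (gw dW) (gw eW) r
    rw [e, map_one] at e'
    exact e'.symm
  simp only [List.mem_cons, List.not_mem_nil, or_false] at hk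
  rcases hk with rfl | rfl
  · obtain h0 | ⟨r, hr, hd⟩ := (hcand j hj).1
    · obtain rfl := Nat.eq_of_beq_eq_true h0
      refine Or.inl ⟨h1.trans (pow_one _), h2, ?_⟩
      rw [h3, ← hz, (by decide +kernel : zList.getD 0 [] = ([] : List ℕ)), gw_nil, mul_one]
    · rw [hz] at hd
      exact (bad cW ciW (h1.trans (pow_one _)).symm (by rw [hci, h1, pow_one]) r hr hd).elim
  · obtain h0 | ⟨r, hr, hd⟩ := (hcand j hj).2
    · obtain rfl := Nat.eq_of_beq_eq_true h0
      exact Or.inr ⟨h1, h2, by rw [h3, hz]⟩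
    · rw [hz] at hd
      have e30 : gw cW ^ 30 = (gw cW)⁻¹ := eq_inv_of_mul_eq_one_left (by rw [← pow_succ]; exact hc31)
      exact (bad ciW cW (by rw [h1, hci, e30]) (by rw [h1, e30, inv_inv]) r hr hd).elim

/-- **Two classes of automorphisms.** -/
theorem card_out : Nat.card (Cfsg.Out O) = 2 := by
  have := C.finite
  have := C.simple
  have hh := h.hom
  simp only [homOK, Bool.and_eq_true, List.all_eq_true, List.mem_range] at hh
  obtain ⟨⟨⟨⟨⟨hpair, hwords⟩, hc'⟩, hd'⟩, he'⟩, hz'⟩ := hh
  obtain ⟨hci, -, hc31, hc1, -, -, -, -, -, -, -⟩ := C.basic_facts h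
  let f : Cfsg.Spor.ON.Gen → O := fun a => gw (imgW.getD (PresData.code D a) [])
  have hinv : ∀ l, l < 9 → gw (imgW.getD (PresData.inv D l) []) = (gw (imgW.getD l []))⁻¹ := by
    intro l hl
    have e := C.sameW_eq h (hpair l hl).1
    simp only [imgSub, List.flatMap_cons, List.flatMap_nil, List.append_nil, gw_append, gw_nil] at e
    exact eq_inv_of_mul_eq_one_left e
  have hact : ∀ l, PresData.act D f l = gw (imgW.getD l []) := by
    intro l
    have i1 : PresData.inv D 1 = 2 := by decide +kernel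
    match l with
    | 0 => exact (show gw (imgW.getD 0 []) = 1 from rfl).symm
    | 1 => rfl
    | 2 =>
      show (gw (imgW.getD 1 []))⁻¹ = _
      rw [← hinv 1 (by norm_num), i1]
    | 3 => rfl
    | 4 => rfl
    | 5 => rfl
    | 6 => rfl
    | 7 => rfl
    | 8 => rfl
    | n + 9 =>
      rw [PresData.act_of_gt _ f (by rw [cols_len]; omega),
        List.getD_eq_default _ _ (le_of_eq_of_le (by decide +kernel : imgW.length = 9) (by omega)), gw_nil]
  have hsub : ∀ u, pval (PresData.act D f) u = gw (imgSub u) := by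
    intro u
    induction u with
    | nil => rfl
    | cons l u ih =>
      rw [pval, ih, hact, show imgSub (l :: u) = imgW.getD l [] ++ imgSub u from List.flatMap_cons,
        gw_append]
  have hrels : ∀ r ∈ (Cfsg.Spor.coxRelators Cfsg.Spor.ON.edges ∪ {r | r ∈ Cfsg.Spor.ON.extra}),
      FreeGroup.lift f r = 1 := by
    intro r hr
    obtain ⟨u, hu, o, ho⟩ := C.valid.rels_le r hr
    have hi' : ∀ l, PresData.act D f (PresData.inv D l) = (PresData.act D f l)⁻¹ := by
      intro l
      by_cases hl : l < 9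
      · rw [hact, hact, hinv l hl]
      · rw [PresData.inv_of_gt _ C.valid.letters (by rw [cols_len]; omega),
          PresData.act_of_gt _ f (show (PresData.cols D).length < l by rw [cols_len]; omega)]
        exact inv_one.symm
    rw [PresData.lift_eq_pval f C.valid.allCode hi', ho]
    have h1 : pval (PresData.act D f) u = 1 := by
      rw [hsub, C.sameW_eq h (hwords u hu), gw_nil]
    rw [List.rotate_eq_drop_append_take_mod, pval_append]
    rw [← List.take_append_drop (o % u.length) u, pval_append] at h1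
    exact mul_eq_one_comm.1 h1
  let σ₀ : O →* O := PresentedGroup.toGroup (f := f) hrels
  have hσ₀ : ∀ w, σ₀ (gw w) = gw (imgSub w) := by
    intro w
    rw [gw, lett, PresData.map_pval, ← hsub]
    refine congrArg (fun g => pval (PresData.act D g) w) (funext fun a => ?_)
    exact PresentedGroup.toGroup.of hrels
  have hsc : σ₀ (gw cW) = gw ciW := (hσ₀ cW).trans (C.sameW_eq h hc')
  have hsd : σ₀ (gw dW) = gw dW := (hσ₀ dW).trans (C.sameW_eq h hd')
  have hker : σ₀.ker = ⊥ := by
    refine (IsSimpleGroup.eq_bot_or_eq_top_of_normal σ₀.ker inferInstance).resolve_right fun ht => hc1 ?_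
    have : σ₀ (gw cW) = 1 := MonoidHom.mem_ker.1 (ht ▸ Subgroup.mem_top _)
    rw [hsc, hci, inv_eq_one] at this
    exact this
  have hinj : Function.Injective σ₀ := (MonoidHom.ker_eq_bot_iff _).1 hker
  let σ : MulAut O := MulEquiv.ofBijective σ₀ ⟨hinj, Finite.injective_iff_surjective.1 hinj⟩
  have hσ : ∀ a, σ ≠ MulAut.conj a := by
    intro a ha
    have e1 : a * gw cW * a⁻¹ = gw ciW := by
      rw [← hsc]; exact (DFunLike.congr_fun ha (gw cW)).symm
    have e2 : a * gw dW * a⁻¹ = gw dW := by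
      have := (DFunLike.congr_fun ha (gw dW)).symm
      exact this.trans hsd
    obtain ⟨v, hv, rfl⟩ := C.cent_d h (mul_inv_eq_iff_eq_mul.1 e2)
    refine C.diffW_ne h (hz' v hv) ?_
    rw [gw_append, gw_append, mul_inv_eq_iff_eq_mul.1 e1]
  refine Golay.card_out_eq_two σ hσ fun φ => ?_
  exact AutCert.exists_conj_or (C.closure_top h) σ hσ (fun ψ => C.cases h ψ) φ

end OCert

end Cfsg.Agent.ONanAut
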