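import Cfsg.Agent.ONanAut.Tables
import Cfsg.Agent.CosetEnum.Glue

/-!
# The presented O'Nan group as a framed permutation group

Everything here is stated relative to the facts about the coset action, supplied by the certificate
of the enumeration.
-/

set_option autoImplicit false

namespace Cfsg.Agent.ONanAut

set_option quotPrecheck false

open Cfsg.Agent.CosetCert Cfsg.Agent.CosetEnum Cfsg.Agent.PermCent

local notation "O" => Cfsg.Spor.ON
local notation "D" => Cfsg.Agent.CosetCert.ONan.data
local notation "RELS" => (Cfsg.Spor.coxRelators Cfsg.Spor.ON.edges ∪ {r | r ∈ Cfsg.Spor.ON.extra})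
local notation "SUBG" => {r | r ∈ [Cfsg.Spor.ON.a, Cfsg.Spor.ON.b, Cfsg.Spor.ON.c, Cfsg.Spor.ON.d, Cfsg.Spor.ON.e, Cfsg.Spor.ON.f]}

/-- What the enumeration certificate provides. -/
structure OCert where
  /-- the action -/
  φ : O →* Equiv.Perm (Fin (PresData.N D))
  valid : PresData.Valid D RELS SUBG
  inj : Function.Injective φ
  hof : ∀ a, φ (PresentedGroup.of a) = PresData.genPerm valid a
  card : Nat.card O = 460815505920
  simple : IsSimpleGroup O
  chain : ChainValid (PresData.N D) (PresData.look D)
    ((List.range (PresData.cols D).length).map (· + 1)) [] Cfsg.Agent.CosetEnum.ONan.simpleData.levels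
  kOK : ∀ k ∈ kList, (∀ l ∈ k, l ∈ onT.letters) ∧ runWord (PresData.look D) k 0 = 0 ∧
    runWord (PresData.look D) k 1 = 1
  kNodup : (kList.map fun k => runWord (PresData.look D) k 31).Nodup

/-- The letters in the presented group. -/
def lett : ℕ → O := Cfsg.Agent.CosetCert.ONan.data.act PresentedGroup.of

/-- The value of a word. -/
def gw (w : List ℕ) : O := pval lett w

theorem gw_append (u v : List ℕ) : gw (u ++ v) = gw v * gw u := pval_append lett u v

theorem gw_nil : gw [] = 1 := rfl

theorem gw_pow (u : List ℕ) (n : ℕ) : gw (List.replicate n u).flatten = gw u ^ n := by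
  induction n with
  | zero => rw [pow_zero]; rfl
  | succ n ih => rw [List.replicate_succ, List.flatten_cons, gw_append, ih, pow_succ]

theorem cols_len : (PresData.cols D).length = 8 := rfl

theorem letters_range :
    (List.range (PresData.cols D).length).map (· + 1) = [1, 2, 3, 4, 5, 6, 7, 8] := rfl

theorem mem_letters {l : ℕ} : l ∈ onT.letters ↔ 1 ≤ l ∧ l ≤ 8 := by
  show l ∈ [1, 2, 3, 4, 5, 6, 7, 8] ↔ _
  simp only [List.mem_cons, List.not_mem_nil, or_false]
  omega

namespace OCert

variable (C : OCert)

theorem finite (C : OCert) : Finite O :=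
  Nat.finite_of_card_ne_zero (by rw [C.card]; norm_num)

theorem phi_gw {w : List ℕ} (hw : ∀ l ∈ w, l ∈ onT.letters) (i : Fin (PresData.N D)) :
    (C.φ (gw w) i : ℕ) = PresData.run D w i := by
  rw [gw, lett, PresData.map_pval]
  have : (C.φ ∘ PresentedGroup.of) = PresData.genPerm C.valid := funext C.hof
  rw [this]
  exact PresData.letters_words C.valid fun l hl =>
    ⟨(mem_letters.1 (hw l hl)).1, cols_len ▸ (mem_letters.1 (hw l hl)).2⟩

theorem phi_inv_letter {l : ℕ} (hl : l ∈ onT.letters) :
    onT.inv l ∈ onT.letters ∧ C.φ (lett (onT.inv l)) = (C.φ (lett l))⁻¹ := by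
  refine ⟨?_, ?_⟩
  · revert l; decide +kernel
  · rw [← map_inv]
    exact congrArg C.φ (PresData.act_inv C.valid l)

/-- The frame. -/
noncomputable def frame : Frame (PresData.N D) :=
  have := C.finite
  { toTables := onT
    σ := fun l => C.φ (lett l)
    R := C.φ.range
    hσ := fun l hl i => by
      have h := C.phi_gw (w := [l]) (by simpa using hl) i
      simpa [gw, pval, PresData.run, onT] using h
    hR := fun l _ => ⟨_, rfl⟩
    hinv := fun l hl => C.phi_inv_letter hl
    hpar := fun p hp hp0 => by
      have h := C.valid.tree p hp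
      simp only [PresData.treeOK, Bool.or_eq_true, Bool.and_eq_true] at h
      rcases h with h | ⟨h1, h2, h3, h4⟩
      · exact absurd (Nat.eq_of_beq_eq_true h) hp0
      · exact ⟨Nat.le_of_ble_eq_true h1,
          mem_letters.2 ⟨Nat.le_of_ble_eq_true h2, cols_len ▸ Nat.le_of_ble_eq_true h3⟩,
          Nat.eq_of_beq_eq_true h4⟩
    hchain := ⟨C.chain.1, C.chain.2.1, C.chain.2.2.1, C.chain.2.2.2.1, trivial⟩
    h0 := rfl
    hsize0 := rfl
    hcard := by
      rw [← Nat.card_congr (MonoidHom.ofInjective C.inj).toEquiv, C.card]
      decide +kernel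
    h1 := by decide +kernel
    h2 := by decide +kernel
    hK := C.kOK
    hKnd := C.kNodup
    hbase := fun τ hτ hfix => by
      refine eq_one_of_fixes_bases (PresData.look D) ((List.range (PresData.cols D).length).map (· + 1))
        (fun l => C.φ (lett l)) ?_ C.φ.range (fun l _ => ⟨_, rfl⟩) Cfsg.Agent.CosetEnum.ONan.simpleData.levels C.chain ?_ hτ ?_
      · intro l hl i
        rw [letters_range] at hl
        have h := C.phi_gw (w := [l]) (fun k hk => by rw [List.mem_singleton.1 hk]; exact hl) i
        simpa [gw, pval, PresData.run] using h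
      · rw [← Nat.card_congr (MonoidHom.ofInjective C.inj).toEquiv, C.card]
        decide +kernel
      · intro i hi
        refine hfix i ?_
        have hb : Cfsg.Agent.CosetEnum.ONan.simpleData.levels.map Level.base = [0, 1, 31] := rfl
        rw [hb] at hi
        simpa [onT, Cfsg.Agent.CosetEnum.ONan.lev1] using hi }

theorem val_eq_phi (w : List ℕ) : C.frame.val w = C.φ (gw w) := by
  induction w with
  | nil => exact (map_one C.φ).symm
  | cons l ls ih =>
    show C.frame.val ls * C.φ (lett l) = C.φ (pval lett ls * lett l)
    rw [ih, map_mul]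
    rfl

include C in
/-- Equality of words from the three base points. -/
theorem gw_eq {u v : List ℕ} (hu : u.all (fun l => onT.letters.contains l) = true)
    (hv : v.all (fun l => onT.letters.contains l) = true) (h : onT.sameOK u v = true) :
    gw u = gw v := by
  simp only [List.all_eq_true, List.contains_iff_mem] at hu hv
  refine C.inj ?_
  rw [← C.val_eq_phi, ← C.val_eq_phi]
  exact C.frame.val_eq hu hv h

include C in
/-- Words whose three base points differ are different. -/
theorem gw_ne {u v : List ℕ} (hu : u.all (fun l => onT.letters.contains l) = true)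
    (hv : v.all (fun l => onT.letters.contains l) = true) (h : onT.sameOK u v = false) :
    gw u ≠ gw v := by
  simp only [List.all_eq_true, List.contains_iff_mem] at hu hv
  intro he
  have hb : ∀ q : Fin (PresData.N D),
      Nat.beq (runWord (PresData.look D) u q) (runWord (PresData.look D) v q) = true := fun q => by
    have h1 := C.frame.val_apply hu q
    have h2 := C.frame.val_apply hv q
    rw [C.val_eq_phi, he, ← C.val_eq_phi, h2] at h1
    rw [show runWord (PresData.look D) u q = runWord (PresData.look D) v q from h1.symm]
    exact Nat.beq_refl _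
  rw [Tables.sameOK, Bool.and_eq_false_iff] at h
  rcases h with h | h
  · exact Bool.false_ne_true (h.symm.trans (hb C.frame.z0))
  rw [Bool.and_eq_false_iff] at h
  rcases h with h | h
  · exact Bool.false_ne_true (h.symm.trans (hb C.frame.z1))
  · exact Bool.false_ne_true (h.symm.trans (hb C.frame.z2))

/-- Elements of the group commuting with a word give permutations doing so. -/
theorem comm_phi {x : O} {w : List ℕ} (h : x * gw w = gw w * x) :
    C.φ x * C.frame.val w = C.frame.val w * C.φ x := by
  rw [C.val_eq_phi, ← map_mul, h, map_mul]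

end OCert

end Cfsg.Agent.ONanAut
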