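import Cfsg.Agent.ONanAut.Tables

/-! Machine-generated checks. -/

set_option maxRecDepth 100000
set_option Elab.async false
set_option maxHeartbeats 2000000

namespace Cfsg.Agent.ONanAut

open Cfsg.Agent.CosetCert

/-- check -/
theorem blockC16 : allB cOK 12 65536 = true := by decide +kernel

/-- check -/
theorem blockC17 : allB cOK 12 69632 = true := by decide +kernel

/-- check -/
theorem blockC18 : allB cOK 12 73728 = true := by decide +kernel

/-- check -/
theorem blockC19 : allB cOK 12 77824 = true := by decide +kernel

/-- check -/
theorem blockC20 : allB cOK 12 81920 = true := by decide +kernel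

/-- check -/
theorem blockC21 : allB cOK 12 86016 = true := by decide +kernel

/-- check -/
theorem blockC22 : allB cOK 12 90112 = true := by decide +kernel

/-- check -/
theorem blockC23 : allB cOK 12 94208 = true := by decide +kernel

end Cfsg.Agent.ONanAut
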