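import Cfsg.Agent.ONanAut.Tables

/-! Machine-generated checks. -/

set_option maxRecDepth 100000
set_option Elab.async false
set_option maxHeartbeats 2000000

namespace Cfsg.Agent.ONanAut

open Cfsg.Agent.CosetCert

/-- check -/
theorem blockC24 : allB cOK 12 98304 = true := by decide +kernel

/-- check -/
theorem blockC25 : allB cOK 12 102400 = true := by decide +kernel

/-- check -/
theorem blockC26 : allB cOK 12 106496 = true := by decide +kernel

/-- check -/
theorem blockC27 : allB cOK 12 110592 = true := by decide +kernel

/-- check -/
theorem blockC28 : allB cOK 12 114688 = true := by decide +kernel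

/-- check -/
theorem blockC29 : allB cOK 12 118784 = true := by decide +kernel

end Cfsg.Agent.ONanAut
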