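import Cfsg.Agent.ONanAut.Tables

/-! Machine-generated checks. -/

set_option maxRecDepth 100000
set_option Elab.async false
set_option maxHeartbeats 2000000

namespace Cfsg.Agent.ONanAut

open Cfsg.Agent.CosetCert

/-- check -/
theorem blockD0 : allB dOK 12 0 = true := by decide +kernel

/-- check -/
theorem blockD1 : allB dOK 12 4096 = true := by decide +kernel

/-- check -/
theorem blockD2 : allB dOK 12 8192 = true := by decide +kernel

/-- check -/
theorem blockD3 : allB dOK 12 12288 = true := by decide +kernel

/-- check -/
theorem blockD4 : allB dOK 12 16384 = true := by decide +kernel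

/-- check -/
theorem blockD5 : allB dOK 12 20480 = true := by decide +kernel

/-- check -/
theorem blockD6 : allB dOK 12 24576 = true := by decide +kernel

/-- check -/
theorem blockD7 : allB dOK 12 28672 = true := by decide +kernel

end Cfsg.Agent.ONanAut
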