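import Cfsg.Agent.ONanAut.Tables

/-! Machine-generated checks. -/

set_option maxRecDepth 100000
set_option Elab.async false
set_option maxHeartbeats 2000000

namespace Cfsg.Agent.ONanAut

open Cfsg.Agent.CosetCert

/-- check -/
theorem blockD8 : allB dOK 12 32768 = true := by decide +kernel

/-- check -/
theorem blockD9 : allB dOK 12 36864 = true := by decide +kernel

/-- check -/
theorem blockD10 : allB dOK 12 40960 = true := by decide +kernel

/-- check -/
theorem blockD11 : allB dOK 12 45056 = true := by decide +kernel

/-- check -/
theorem blockD12 : allB dOK 12 49152 = true := by decide +kernel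

/-- check -/
theorem blockD13 : allB dOK 12 53248 = true := by decide +kernel

/-- check -/
theorem blockD14 : allB dOK 12 57344 = true := by decide +kernel

/-- check -/
theorem blockD15 : allB dOK 12 61440 = true := by decide +kernel

end Cfsg.Agent.ONanAut
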