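import Cfsg.Agent.ONanAut.Tables

/-! Machine-generated checks. -/

set_option maxRecDepth 100000
set_option Elab.async false
set_option maxHeartbeats 2000000

namespace Cfsg.Agent.ONanAut

open Cfsg.Agent.CosetCert

/-- check -/
theorem blockLab27 : allB labOK 12 110592 = true := by decide +kernel

/-- check -/
theorem blockLab28 : allB labOK 12 114688 = true := by decide +kernel

/-- check -/
theorem blockLab29 : allB labOK 12 118784 = true := by decide +kernel

end Cfsg.Agent.ONanAut
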