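import Cfsg.Agent.ONanAut.Aut

/-! The small checks. -/

set_option maxRecDepth 100000
set_option Elab.async false
set_option maxHeartbeats 2000000

namespace Cfsg.Agent.ONanAut

theorem basic_ok : basicOK = true := by decide +kernel

theorem z_ok : zOK = true := by decide +kernel

theorem cand_ok : candOK = true := by decide +kernel

theorem gen_ok : genOK = true := by decide +kernel

theorem hom_ok : homOK = true := by decide +kernel

theorem cent_ok : centOK = true := by decide +kernel

theorem k_ok : (∀ k ∈ kList, (∀ l ∈ k, l ∈ onT.letters) ∧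
    Cfsg.Agent.CosetEnum.runWord (Cfsg.Agent.CosetCert.PresData.look Cfsg.Agent.CosetCert.ONan.data) k 0 = 0 ∧
    Cfsg.Agent.CosetEnum.runWord (Cfsg.Agent.CosetCert.PresData.look Cfsg.Agent.CosetCert.ONan.data) k 1 = 1) ∧
    (kList.map fun k =>
      Cfsg.Agent.CosetEnum.runWord (Cfsg.Agent.CosetCert.PresData.look Cfsg.Agent.CosetCert.ONan.data) k 31).Nodup := by
  decide +kernel

end Cfsg.Agent.ONanAut
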