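import Cfsg.Agent.ONanAut.CheckSmall
import Cfsg.Agent.ONanAut.CheckLab
import Cfsg.Agent.ONanAut.CheckC0
import Cfsg.Agent.ONanAut.CheckC1
import Cfsg.Agent.ONanAut.CheckC2
import Cfsg.Agent.ONanAut.CheckC3
import Cfsg.Agent.ONanAut.CheckD0
import Cfsg.Agent.ONanAut.CheckD1
import Cfsg.Agent.ONanAut.CheckD2
import Cfsg.Agent.ONanAut.CheckD3
import Cfsg.Agent.CosetEnum.ONan.PermGroup

/-!
# The outer automorphism group of the presented O'Nan group
-/

set_option autoImplicit false
set_option maxRecDepth 100000

namespace Cfsg.Agent.ONanAut

open Cfsg.Agent.CosetCert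

theorem below_step {f : ℕ → Bool} {a : ℕ} (h : ∀ i, i < a → f i = true)
    (hb : allB f 12 a = true) : ∀ i, i < a + 4096 → f i = true := fun i hi =>
  (lt_or_ge i a).elim (h i) fun ha => allB_spec hb i ha hi

theorem allC0 : ∀ i, i < 0 → cOK i = true := fun i hi => absurd hi (Nat.not_lt_zero i)

theorem allC1 : ∀ i, i < 4096 → cOK i = true := below_step allC0 blockC0

theorem allC2 : ∀ i, i < 8192 → cOK i = true := below_step allC1 blockC1

theorem allC3 : ∀ i, i < 12288 → cOK i = true := below_step allC2 blockC2

theorem allC4 : ∀ i, i < 16384 → cOK i = true := below_step allC3 blockC3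

theorem allC5 : ∀ i, i < 20480 → cOK i = true := below_step allC4 blockC4

theorem allC6 : ∀ i, i < 24576 → cOK i = true := below_step allC5 blockC5

theorem allC7 : ∀ i, i < 28672 → cOK i = true := below_step allC6 blockC6

theorem allC8 : ∀ i, i < 32768 → cOK i = true := below_step allC7 blockC7

theorem allC9 : ∀ i, i < 36864 → cOK i = true := below_step allC8 blockC8

theorem allC10 : ∀ i, i < 40960 → cOK i = true := below_step allC9 blockC9

theorem allC11 : ∀ i, i < 45056 → cOK i = true := below_step allC10 blockC10

theorem allC12 : ∀ i, i < 49152 → cOK i = true := below_step allC11 blockC11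

theorem allC13 : ∀ i, i < 53248 → cOK i = true := below_step allC12 blockC12

theorem allC14 : ∀ i, i < 57344 → cOK i = true := below_step allC13 blockC13

theorem allC15 : ∀ i, i < 61440 → cOK i = true := below_step allC14 blockC14

theorem allC16 : ∀ i, i < 65536 → cOK i = true := below_step allC15 blockC15

theorem allC17 : ∀ i, i < 69632 → cOK i = true := below_step allC16 blockC16

theorem allC18 : ∀ i, i < 73728 → cOK i = true := below_step allC17 blockC17

theorem allC19 : ∀ i, i < 77824 → cOK i = true := below_step allC18 blockC18

theorem allC20 : ∀ i, i < 81920 → cOK i = true := below_step allC19 blockC19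

theorem allC21 : ∀ i, i < 86016 → cOK i = true := below_step allC20 blockC20

theorem allC22 : ∀ i, i < 90112 → cOK i = true := below_step allC21 blockC21

theorem allC23 : ∀ i, i < 94208 → cOK i = true := below_step allC22 blockC22

theorem allC24 : ∀ i, i < 98304 → cOK i = true := below_step allC23 blockC23

theorem allC25 : ∀ i, i < 102400 → cOK i = true := below_step allC24 blockC24

theorem allC26 : ∀ i, i < 106496 → cOK i = true := below_step allC25 blockC25

theorem allC27 : ∀ i, i < 110592 → cOK i = true := below_step allC26 blockC26

theorem allC28 : ∀ i, i < 114688 → cOK i = true := below_step allC27 blockC27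

theorem allC29 : ∀ i, i < 118784 → cOK i = true := below_step allC28 blockC28

theorem allC30 : ∀ i, i < 122880 → cOK i = true := below_step allC29 blockC29

theorem ptsC : ∀ p < PresData.N Cfsg.Agent.CosetCert.ONan.data, cOK p = true := fun p hp =>
  allC30 p (lt_of_lt_of_le hp (by decide +kernel))

theorem allD0 : ∀ i, i < 0 → dOK i = true := fun i hi => absurd hi (Nat.not_lt_zero i)

theorem allD1 : ∀ i, i < 4096 → dOK i = true := below_step allD0 blockD0

theorem allD2 : ∀ i, i < 8192 → dOK i = true := below_step allD1 blockD1

theorem allD3 : ∀ i, i < 12288 → dOK i = true := below_step allD2 blockD2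

theorem allD4 : ∀ i, i < 16384 → dOK i = true := below_step allD3 blockD3

theorem allD5 : ∀ i, i < 20480 → dOK i = true := below_step allD4 blockD4

theorem allD6 : ∀ i, i < 24576 → dOK i = true := below_step allD5 blockD5

theorem allD7 : ∀ i, i < 28672 → dOK i = true := below_step allD6 blockD6

theorem allD8 : ∀ i, i < 32768 → dOK i = true := below_step allD7 blockD7

theorem allD9 : ∀ i, i < 36864 → dOK i = true := below_step allD8 blockD8

theorem allD10 : ∀ i, i < 40960 → dOK i = true := below_step allD9 blockD9

theorem allD11 : ∀ i, i < 45056 → dOK i = true := below_step allD10 blockD10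

theorem allD12 : ∀ i, i < 49152 → dOK i = true := below_step allD11 blockD11

theorem allD13 : ∀ i, i < 53248 → dOK i = true := below_step allD12 blockD12

theorem allD14 : ∀ i, i < 57344 → dOK i = true := below_step allD13 blockD13

theorem allD15 : ∀ i, i < 61440 → dOK i = true := below_step allD14 blockD14

theorem allD16 : ∀ i, i < 65536 → dOK i = true := below_step allD15 blockD15

theorem allD17 : ∀ i, i < 69632 → dOK i = true := below_step allD16 blockD16

theorem allD18 : ∀ i, i < 73728 → dOK i = true := below_step allD17 blockD17

theorem allD19 : ∀ i, i < 77824 → dOK i = true := below_step allD18 blockD18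

theorem allD20 : ∀ i, i < 81920 → dOK i = true := below_step allD19 blockD19

theorem allD21 : ∀ i, i < 86016 → dOK i = true := below_step allD20 blockD20

theorem allD22 : ∀ i, i < 90112 → dOK i = true := below_step allD21 blockD21

theorem allD23 : ∀ i, i < 94208 → dOK i = true := below_step allD22 blockD22

theorem allD24 : ∀ i, i < 98304 → dOK i = true := below_step allD23 blockD23

theorem allD25 : ∀ i, i < 102400 → dOK i = true := below_step allD24 blockD24

theorem allD26 : ∀ i, i < 106496 → dOK i = true := below_step allD25 blockD25

theorem allD27 : ∀ i, i < 110592 → dOK i = true := below_step allD26 blockD26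

theorem allD28 : ∀ i, i < 114688 → dOK i = true := below_step allD27 blockD27

theorem allD29 : ∀ i, i < 118784 → dOK i = true := below_step allD28 blockD28

theorem allD30 : ∀ i, i < 122880 → dOK i = true := below_step allD29 blockD29

theorem ptsD : ∀ p < PresData.N Cfsg.Agent.CosetCert.ONan.data, dOK p = true := fun p hp =>
  allD30 p (lt_of_lt_of_le hp (by decide +kernel))

theorem labAll {r : ℕ} (h1 : 110790 ≤ r) (h2 : r < 122760) : labOK r = true := by
  rcases lt_or_ge r 114688 with h | h
  · exact allB_spec blockLab27 r (by omega) (by omega)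
  rcases lt_or_ge r 118784 with h' | h'
  · exact allB_spec blockLab28 r h (by omega)
  · exact allB_spec blockLab29 r h' (by omega)

/-- All computations. -/
theorem computed : Computed where
  basic := basic_ok
  zlist := z_ok
  cand := cand_ok
  gen := gen_ok
  hom := hom_ok
  cent := cent_ok
  cpts := fun p hp => by
    have h := ptsC p hp
    rw [cOK, Bool.or_eq_true] at h
    exact h.resolve_left fun h' => absurd (Nat.le_of_ble_eq_true h') (Nat.not_le.2 hp)
  dpts := fun p hp => by
    have h := ptsD p hp
    rw [dOK, Bool.or_eq_true] at h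
    exact h.resolve_left fun h' => absurd (Nat.le_of_ble_eq_true h') (Nat.not_le.2 hp)
  lab1 := fun r h1 h2 => by
    have h := labAll h1 (h2.trans (by norm_num))
    simp only [labOK, Bool.and_eq_true, Bool.or_eq_true] at h
    rcases h.1 with (h' | h') | h'
    · exact absurd (Nat.le_of_ble_eq_true h') (Nat.not_le.2 (by omega))
    · exact absurd (Nat.le_of_ble_eq_true h') (Nat.not_le.2 h2)
    · exact h'
  lab2 := fun r h1 h2 => by
    have h := labAll (le_trans (by norm_num) h1) h2
    simp only [labOK, Bool.and_eq_true, Bool.or_eq_true] at h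
    rcases h.2 with (h' | h') | h'
    · exact absurd (Nat.le_of_ble_eq_true h') (Nat.not_le.2 (by omega))
    · exact absurd (Nat.le_of_ble_eq_true h') (Nat.not_le.2 h2)
    · exact h'

/-- **Out(O'N) has order 2.** -/
theorem card_out_on : Nat.card (Cfsg.Out Cfsg.Spor.ON) = 2 := by
  obtain ⟨φ, hinj, hof, -⟩ := Cfsg.Agent.CosetEnum.ONan.action
  obtain ⟨hs, hc⟩ := Cfsg.Agent.CosetEnum.ONan.main
  exact OCert.card_out
    { φ := φ, valid := Cfsg.Agent.CosetCert.ONan.valid, inj := hinj, hof := hof, card := hc,
      simple := hs, chain := Cfsg.Agent.CosetEnum.ONan.chain_valid,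
      kOK := k_ok.1, kNodup := k_ok.2 }
    computed

end Cfsg.Agent.ONanAut
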