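import Cfsg.Agent.ONanAut.Data
import Cfsg.Agent.CosetCert.ONan.Data
import Cfsg.Agent.CosetEnum.ONan.SimpleDefs

/-!
# The tables of the O'Nan group on 122760 points
-/

set_option autoImplicit false

namespace Cfsg.Agent.ONanAut

open Cfsg.Agent.CosetCert Cfsg.Agent.PermCent

local notation "D" => Cfsg.Agent.CosetCert.ONan.data

/-- The tables. -/
noncomputable def onT : Tables (PresData.N D) where
  T := PresData.look D
  letters := [1, 2, 3, 4, 5, 6, 7, 8]
  inv := PresData.inv D
  par := fun p => PTree.get 32 (PresData.par D) p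
  L0 := Cfsg.Agent.CosetEnum.ONan.lev0
  L1 := Cfsg.Agent.CosetEnum.ONan.lev1
  b2 := 31
  K := kList

/-- The labelling: three of the suborbits. -/
noncomputable def lab : ℕ → ℕ :=
  label Cfsg.Agent.CosetCert.ONan.ordT Cfsg.Agent.CosetCert.ONan.rankT 110790 116376 122760
    Cfsg.Agent.CosetEnum.ONan.lev1

/-- The check at a point for the element of order 31. -/
noncomputable def cOK (p : ℕ) : Bool :=
  Nat.ble (PresData.N D) p ||
    onT.pointOK lab cW ciW 20 31 (fun i => PTree.get 16 codeC i) repsC p

/-- The check at a point for the element of order 15. -/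
noncomputable def dOK (p : ℕ) : Bool :=
  Nat.ble (PresData.N D) p ||
    onT.pointOK lab d0W d0iW 20 15 (fun i => PTree.get 16 codeD i) repsD p

/-- The check at a rank for the labelling. -/
noncomputable def labOK (r : ℕ) : Bool :=
  (Nat.blt r 110790 || Nat.ble 116376 r ||
      closedOK (PresData.look D) Cfsg.Agent.CosetCert.ONan.ordT Cfsg.Agent.CosetCert.ONan.rankT
        110790 116376 [3, 4, 5, 6, 7, 8] r) &&
    (Nat.blt r 116376 || Nat.ble 122760 r ||
      closedOK (PresData.look D) Cfsg.Agent.CosetCert.ONan.ordT Cfsg.Agent.CosetCert.ONan.rankT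
        116376 122760 [3, 4, 5, 6, 7, 8] r)

end Cfsg.Agent.ONanAut
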